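import Cfsg.Agent.AschCrit.ClaimN.Third
import Cfsg.Agent.NineCore.BenderPair
import Cfsg.Agent.StrongEmb.DihedralGen
import Cfsg.Agent.Lib.KleinGen
import Cfsg.Agent.Lib.HallHigman
import Cfsg.Agent.AschCrit.MainReduce

/-!
# Aschbacher's criterion: Claim N from the R-GOOD statement

`G` is 2-transitive and `D_a ∪ D_b` normalises only subgroups with normaliser `G` (`Big`).  For an odd prime
`r` not dividing the index `|G_{ab} : G_{a,b,vb}|`:

* `step2` : no `k ∈ G_{ab}` of `r`-power order is inverted by `t ∈ D` swapping `a` and `b` and centralised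
  by an element of `D`
* `step3` : `O_r(O(G_{ab})) = 1`

`claimN` : if for all odd primes `p` dividing the index an element `w ∈ D_x` normalising a `p`-group
`U ≤ G_x` centralises it, then no `k ≠ 1` of odd order in `G_{ab}` is inverted by an element of `D_a`.
-/

set_option autoImplicit false

open Subgroup

namespace Cfsg.Agent.AschCrit.ClaimN.Steps

open Cfsg.Agent.TwoFusion.StronglyEmbeddedBasic Cfsg.Agent.AschCrit.Basic
open Cfsg.Agent.AschCrit.Basic.Setup Cfsg.Agent.AschCrit.Closed Cfsg.Agent.AschCrit.IsolatedSwap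
open Cfsg.Agent.AschCrit.OddInv Cfsg.Agent.SignalizersComponents.RelSylow
open Cfsg.Agent.SignalizersComponents.PLayerAut Cfsg.Agent.AschCrit.Dagger
open Cfsg.Agent.AschCrit.TwoTrans Cfsg.Agent.AschCrit.CoreCentral Cfsg.Agent.AschCrit.NonIso
open Cfsg.Agent.AschCrit.ClaimN.Third
open Cfsg.Agent.OddOrderLocal.PiCoreOf Cfsg.Agent.OddOrderLocal.FitCores

variable {G Ω : Type*} [Group G] [MulAction G Ω] {z : G}

/-- the elements of `D` at two different points generate `G` -/
def Big (G Ω : Type*) [Group G] [MulAction G Ω] (z : G) : Prop :=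
  ∀ a b : Ω, a ≠ b → ∀ N : Subgroup G, (∀ d ∈ At z a, d ∈ N) → (∀ d ∈ At z b, d ∈ N) → N = ⊤

/-- a subgroup of `G_a` normalised by `D_a` and `D_b` is trivial -/
theorem eq_bot_of_normalized (h : Setup G Ω z) (hf : ∀ g : G, (∀ a : Ω, g • a = a) → g = 1)
    (hbig : Big G Ω z) {a b c : Ω} (hab : a ≠ b) {V : Subgroup G}
    (hV : V ≤ MulAction.stabilizer G c) (ha : ∀ d ∈ At z a, d ∈ normalizer (V : Set G))
    (hb : ∀ d ∈ At z b, d ∈ normalizer (V : Set G)) : V = ⊥ := by
  have htop := hbig a b hab _ ha hb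
  rw [eq_bot_iff]
  intro x hx
  rw [mem_bot]
  apply hf
  intro e
  obtain ⟨g, rfl⟩ := h.trans c e
  have hg : g ∈ normalizer (V : Set G) := by rw [htop]; exact mem_top g
  have h1 := (mem_normalizer_iff.mp (inv_mem hg) x).mp hx
  rw [inv_inv] at h1
  have h2 : (g⁻¹ * x * g) • c = c := hV h1
  rw [mul_smul, mul_smul, inv_smul_eq_iff] at h2
  exact h2

/-- In a finite solvable group a `p'`-subgroup normalised by a Sylow `p`-subgroup lies in `O_{p'}(X)`. -/
theorem le_pPrimeCore_of_sylow {X : Type*} [Group X] [Finite X] (hX : Group.IsSolvable X) {p : ℕ}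
    [hpf : Fact p.Prime] (P : Sylow p X) {Y : Subgroup X} (hY : (Nat.card Y).Coprime p)
    (hPY : (P : Subgroup X) ≤ normalizer (Y : Set X)) : Y ≤ Cfsg.pPrimeCore p X := by
  have hs : Function.Surjective (QuotientGroup.mk' (Cfsg.pPrimeCore p X)) :=
    QuotientGroup.mk'_surjective _
  have hsol : Group.IsSolvable (X ⧸ Cfsg.pPrimeCore p X) := Group.isSolvable_of_surjective hs
  have hC := Cfsg.Agent.Lib.HallHigman.centralizer_pCore_le_of_solvable p
    (Cfsg.Agent.Lib.HallHigman.pPrimeCore_quotient_eq_bot p (Cfsg.pPrimeCore p X) rfl)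
  set R := Cfsg.pCore p (X ⧸ Cfsg.pPrimeCore p X) with hR
  have hRn : R.Normal := Cfsg.Agent.Lib.HallHigman.pCore_normal p
  have hRp : IsPGroup p R := Cfsg.Agent.Lib.HallHigman.pCore_isPGroup p
  have hRP : R ≤ (P : Subgroup X).map (QuotientGroup.mk' (Cfsg.pPrimeCore p X)) := by
    rw [← P.coe_mapSurjective hs]
    exact Cfsg.Agent.Lib.HallHigman.pCore_le_sylow p _
  have hYR : Y.map (QuotientGroup.mk' (Cfsg.pPrimeCore p X)) ⊓ R = ⊥ := by
    apply disjoint_iff.mp
    apply Subgroup.disjoint_of_coprime_natCard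
    obtain ⟨n, hn⟩ := IsPGroup.iff_card.mp hRp
    rw [hn]
    refine Nat.Coprime.pow_right n (Nat.Coprime.coprime_dvd_left ?_ hY)
    exact Subgroup.card_map_dvd Y _
  have h1 : Y.map (QuotientGroup.mk' (Cfsg.pPrimeCore p X)) ≤ Subgroup.centralizer (R : Set _) := by
    rintro _ ⟨y, hy, rfl⟩
    rw [Subgroup.mem_centralizer_iff]
    intro r hr
    have h2 : QuotientGroup.mk' (Cfsg.pPrimeCore p X) y * r *
        (QuotientGroup.mk' (Cfsg.pPrimeCore p X) y)⁻¹ * r⁻¹ ∈
        Y.map (QuotientGroup.mk' (Cfsg.pPrimeCore p X)) ⊓ R := by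
      constructor
      · obtain ⟨x, hx, rfl⟩ := hRP hr
        have h3 : x * y⁻¹ * x⁻¹ ∈ Y :=
          (Subgroup.mem_normalizer_iff.mp (hPY hx) _).mp (Y.inv_mem hy)
        exact ⟨y * (x * y⁻¹ * x⁻¹), Y.mul_mem hy h3, by simp [mul_assoc]⟩
      · exact R.mul_mem (hRn.conj_mem r hr _) (R.inv_mem hr)
    rw [hYR, Subgroup.mem_bot, mul_inv_eq_one, mul_inv_eq_iff_eq_mul] at h2
    exact h2.symm
  have h2 : Y.map (QuotientGroup.mk' (Cfsg.pPrimeCore p X)) = ⊥ := by
    rw [← hYR]
    exact le_antisymm (le_inf le_rfl (h1.trans hC)) inf_le_left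
  rwa [Subgroup.map_eq_bot_iff, QuotientGroup.ker_mk'] at h2

/-- a Sylow `r`-subgroup of `O(G_{ab})` normalised by `v ∈ D_a` if `r` does not divide the index -/
theorem exists_maxP_inv [Finite G] (h : Setup G Ω z) {r : ℕ} [hr' : Fact r.Prime] {a b : Ω}
    (hab : a ≠ b) {v : G} (hv : v ∈ At z a)
    (hnd : ¬ r ∣ (st3 G v a b).relIndex (stab2 G a b)) :
    ∃ P : Subgroup G, IsMaxP r (oc G a b) P ∧ Inv v P := by
  have hvv := h.mul_self hv.1
  have hiY : Inv v (st3 G v a b) := inv_st3 h hv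
  have hiO : Inv v (relCore 2 (st3 G v a b)) :=
    Inv.of_mem_normalizer (normalizer_le_normalizer_relCore 2 _ (hiY.mem_normalizer hvv))
  obtain ⟨P, hP, hiP, -⟩ := exists_isMaxP_ge hvv (odd_relCore (st3 G v a b)) hiO (p := r) (U := ⊥)
    bot_le IsPGroup.of_bot (fun u hu => by rw [mem_bot.mp hu]; simp)
  refine ⟨P, ?_, hiP⟩
  rw [relCore_st3 h hab hv] at hP
  refine isMaxP_of_not_dvd hP.1 (hP.2.1.trans inf_le_left) ?_
  intro hdvd
  rw [← relIndex_mul_relIndex P (oc G a b ⊓ MulAction.stabilizer G (v • b)) (oc G a b) hP.2.1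
    inf_le_left] at hdvd
  rcases (Nat.Prime.dvd_mul hr'.out).mp hdvd with h1 | h1
  · exact hP.not_dvd_index h1
  · exact hnd (h1.trans relIndex_oc_dvd)

/-- if `v ∈ D_a` normalises some Sylow `r`-subgroup of `X = O(G_{ab})` and `X` normalises
`Z(J(R))`, then `D_a` normalises `Z(J(R))` -/
theorem at_le_normalizer_zj [Finite G] (h : Setup G Ω z) {r : ℕ} [hr' : Fact r.Prime] {a b : Ω}
    (hab : a ≠ b) {v : G} (hv : v ∈ At z a) {R P : Subgroup G} (hR : IsMaxP r (oc G a b) R)
    (hP : IsMaxP r (oc G a b) P) (hvP : Inv v P)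
    (hX : oc G a b ≤ normalizer (Cfsg.centerThompsonOf r R : Set G)) :
    ∀ d ∈ At z a, d ∈ normalizer (Cfsg.centerThompsonOf r R : Set G) := by
  obtain ⟨c, hc, hcP⟩ := hR.exists_conj hP
  have h1 : Cfsg.centerThompsonOf r P = Cfsg.centerThompsonOf r R := by
    rw [← hcP, Cfsg.Agent.PLocal.ZJElem.centerThompsonOf_map r (MulAut.conj c).injective]
    exact mem_normalizer_iff_map_conj_eq.mp (hX hc)
  have h2 : v ∈ normalizer (Cfsg.centerThompsonOf r R : Set G) := by
    rw [← h1]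
    exact Cfsg.Agent.PLocal.ZJElem.normalizer_le_normalizer_centerThompsonOf r P
      (hvP.mem_normalizer (h.mul_self hv.1))
  intro d hd
  obtain ⟨n, hn, rfl⟩ := exists_conj_at_oc h hab hv hd
  exact mul_mem (mul_mem (hX hn) h2) (inv_mem (hX hn))

theorem isPGroup_odd [Finite G] {r : ℕ} [hr' : Fact r.Prime] (hr : Odd r) {k : G}
    (hk : IsPGroup r (zpowers k)) : Odd (orderOf k) := by
  rw [← Nat.card_zpowers]
  exact odd_of_isPGroup hr hk

theorem mul_self_ne_one {k : G} (hk : Odd (orderOf k)) (hk1 : k ≠ 1) : k * k ≠ 1 := by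
  intro hkk
  apply hk1
  obtain ⟨m, hm⟩ := hk
  have h1 : k ^ (2 * m + 1) = 1 := by rw [← hm]; exact pow_orderOf_eq_one k
  rw [pow_succ, pow_mul, pow_two, hkk, one_pow, one_mul] at h1
  exact h1

/-- an element `k` of odd order with `k² ∈ H` lies in `H` -/
theorem mem_of_mul_self_mem {H : Subgroup G} {k : G} (hk : Odd (orderOf k)) (hkk : k * k ∈ H) :
    k ∈ H := by
  obtain ⟨m, hm⟩ := hk
  have h1 : k ^ (2 * m + 1) = 1 := by rw [← hm]; exact pow_orderOf_eq_one k
  have h2 : k = (k * k) ^ (m + 1) := by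
    rw [← pow_two, ← pow_mul, show 2 * (m + 1) = (2 * m + 1) + 1 by ring, pow_succ, h1, one_mul]
  rw [h2]
  exact pow_mem hkk _

/-- an element of `G_{ab}` of odd order inverted by `t ∈ D` swapping `a` and `b` lies in `O(G_{ab})` -/
theorem mem_oc_of_inverted [Finite G] (h : Setup G Ω z) {a b : Ω} (hab : a ≠ b) {t k : G}
    (ht : t ∈ Sw z a b) (hk : k ∈ stab2 G a b) (hko : Odd (orderOf k))
    (htk : t * k * t⁻¹ = k⁻¹) : k ∈ oc G a b := by
  apply mem_of_mul_self_mem hko
  have h1 := inv_mem (commutator_mem_oc h hab ht hk)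
  rw [htk] at h1
  have e : (k⁻¹ * k⁻¹)⁻¹ = k * k := by rw [mul_inv_rev, inv_inv]
  rwa [e] at h1

/-- `t k` is conjugate to `t`, for `t` inverting the odd order element `k` -/
theorem isConj_mul_of_inverted [Finite G] (h : Setup G Ω z) {t k : G} (ht : IsConj z t)
    (hko : Odd (orderOf k)) (htk : t * k * t⁻¹ = k⁻¹) : IsConj z (t * k) := by
  obtain ⟨m, -, hm⟩ := exists_sqrt_conj (h.mul_self ht) hko htk
  exact ht.trans (isConj_iff.mpr ⟨m, hm⟩)

/-- **Lemma S.** An odd order `r'`-subgroup normalised by `t` and `k` fixes `g = Fix(t)`. -/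
theorem le_stabilizer_of_dihedral [Finite G] (h : Setup G Ω z) {r : ℕ} [hr' : Fact r.Prime]
    (hr : Odd r) {t k : G} (ht : IsConj z t) (hkr : IsPGroup r (zpowers k)) (hk1 : k ≠ 1)
    (htk : t * k * t⁻¹ = k⁻¹) (hd : ∃ d, IsConj z d ∧ Commute d k) {g : Ω} (htg : t • g = g)
    {B : Subgroup G} (hBo : Odd (Nat.card B)) (hBr : ¬ r ∣ Nat.card B)
    (htB : t ∈ normalizer (B : Set G)) (hkB : k ∈ normalizer (B : Set G)) :
    B ≤ MulAction.stabilizer G g := by
  have hko := isPGroup_odd hr hkr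
  have hN : ∀ n ∈ normalizer (zpowers k : Set G), n • g = g := fun n hn =>
    fix_of_normalizer h ht (mul_self_ne_one hko hk1) htk htg hd hn
  have hkg : k • g = g := hN k (le_normalizer (mem_zpowers k))
  have htkD := isConj_mul_of_inverted h ht hko htk
  have htkg : (t * k) • g = g := by rw [mul_smul, hkg, htg]
  have hti := h.inv_eq ht
  obtain ⟨n, hn⟩ := hkr ⟨k, mem_zpowers k⟩
  have hn' : k ^ r ^ n = 1 := congrArg Subtype.val hn
  refine Cfsg.Agent.StrongEmb.DihedralGen.le_of_dihedral hr'.out (MulAction.stabilizer G g) B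
    (t := t) (k := k) hBo hBr ⟨n, hn'⟩ (h.mul_self ht) ?_ ?_ ?_ ?_ ?_ ?_
  · rw [hti] at htk; exact htk
  · exact fun b hb => (mem_normalizer_iff.mp htB b).mp hb
  · exact fun b hb => (mem_normalizer_iff.mp hkB b).mp hb
  · intro b _ hb
    apply hN
    rw [mem_normalizer_iff]
    intro u
    have key : ∀ u ∈ zpowers k, b * u * b⁻¹ = u := by
      intro u hu
      obtain ⟨m, rfl⟩ := mem_zpowers_iff.mp hu
      rw [← (hb.zpow_left m).eq]; group
    constructor
    · intro hu
      rw [key u hu]; exact hu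
    · intro hu
      have h1 := key _ hu
      have h3 : b⁻¹ * (b * (b * u * b⁻¹) * b⁻¹) * b = b⁻¹ * (b * u * b⁻¹) * b := by rw [h1]
      have h4 : b⁻¹ * (b * (b * u * b⁻¹) * b⁻¹) * b = b * u * b⁻¹ := by group
      have h5 : b⁻¹ * (b * u * b⁻¹) * b = u := by group
      rw [h4, h5] at h3
      rwa [h3] at hu
  · intro b _ hb
    exact h.fix_of_commute ht hb.symm htg
  · intro b _ hb
    exact h.fix_of_commute htkD hb.symm htkg

theorem relCore_conj [Finite G] (r : ℕ) (a b : Ω) (g : G) :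
    relCore r (oc G (g • a) (g • b)) = (relCore r (oc G a b)).map (MulAut.conj g).toMonoidHom := by
  rw [← oc_map_conj]
  exact relCore_map_equiv r (MulAut.conj g) (oc G a b)

theorem card_relCore_eq [Finite G] (h : Setup G Ω z)
    (htt : ∀ a b c : Ω, a ≠ b → a ≠ c → ∃ g : G, g • a = a ∧ g • b = c) (r : ℕ) {a b c d : Ω}
    (hab : a ≠ b) (hcd : c ≠ d) :
    Nat.card (relCore r (oc G a b)) = Nat.card (relCore r (oc G c d)) := by
  obtain ⟨g₁, hg₁⟩ := h.trans a c
  have hne : c ≠ g₁ • b := by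
    rw [← hg₁]
    exact fun hh => hab (smul_left_cancel g₁ hh)
  obtain ⟨g₂, hg₂, hg₂b⟩ := htt c (g₁ • b) d hne hcd
  have h1 := relCore_conj (G := G) r a b (g₂ * g₁)
  rw [mul_smul, mul_smul, hg₁, hg₂, hg₂b] at h1
  rw [h1]
  exact Nat.card_congr
    ((relCore r (oc G a b)).equivMapOfInjective _ (MulAut.conj (g₂ * g₁)).injective).toEquiv

/-- **Step 2.** -/
theorem step2 [Finite G] (hsolv : ∀ K : Subgroup G, Odd (Nat.card K) → Group.IsSolvable K)
    (h : Setup G Ω z) (hf : ∀ g : G, (∀ a : Ω, g • a = a) → g = 1)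
    (htt : ∀ a b c : Ω, a ≠ b → a ≠ c → ∃ g : G, g • a = a ∧ g • b = c) (hbig : Big G Ω z)
    {r : ℕ} [hr' : Fact r.Prime] (hr : Odd r)
    (hnd : ∀ (a b : Ω) (v : G), a ≠ b → v ∈ At z a →
      ¬ r ∣ (st3 G v a b).relIndex (stab2 G a b)) {a b : Ω} (hab : a ≠ b) {t k : G}
    (ht : t ∈ Sw z a b) (hk : k ∈ stab2 G a b) (hkr : IsPGroup r (zpowers k)) (hk1 : k ≠ 1)
    (htk : t * k * t⁻¹ = k⁻¹) (hd : ∃ d, IsConj z d ∧ Commute d k) : False := by
  have hko := isPGroup_odd hr hkr
  obtain ⟨g, htg⟩ := h.ex ht.1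
  have hag : a ≠ g := by
    rintro rfl
    exact hab (htg.symm.trans ht.2)
  have hkX := mem_oc_of_inverted h hab ht hk hko htk
  -- `Θ = O_{r'}(X_{ab})`
  have hΘX : relCore r (oc G a b) ≤ oc G a b := relCore_le r _
  have hΘn : normalizer (oc G a b : Set G) ≤ normalizer (relCore r (oc G a b) : Set G) :=
    normalizer_le_normalizer_relCore r _
  have htX : t ∈ normalizer (oc G a b : Set G) :=
    mem_normalizer_oc (Or.inr ⟨ht.2, sw_smul_right h ht⟩)
  have hΘg : relCore r (oc G a b) ≤ MulAction.stabilizer G g := by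
    refine le_stabilizer_of_dihedral h hr ht.1 hkr hk1 htk hd htg
      ((odd_oc a b).of_dvd_nat (card_dvd_of_le hΘX)) ?_ (hΘn htX) (hΘn (le_normalizer hkX))
    intro hdvd
    exact hr'.out.one_lt.ne' (Nat.Coprime.eq_one_of_dvd (relCore_coprime r _).symm hdvd)
  have hΘag : relCore r (oc G a b) ≤ oc G a g ⊓ MulAction.stabilizer G b := by
    rw [← oc_inf_eq h hab ht htg]
    exact le_inf hΘX hΘg
  -- a Sylow `r`-subgroup of `X_{abg}` is Sylow in `X_{ag}`
  obtain ⟨T, hT, -⟩ := exists_isMaxP (p := r) (C := oc G a b ⊓ MulAction.stabilizer G g) (W := ⊥)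
    IsPGroup.of_bot bot_le
  have hT' : IsMaxP r (oc G a g) T := by
    have h1 : T ≤ oc G a g ⊓ MulAction.stabilizer G b := by
      rw [← oc_inf_eq h hab ht htg]; exact hT.2.1
    refine isMaxP_of_not_dvd hT.1 (h1.trans inf_le_left) ?_
    intro hdvd
    rw [← relIndex_mul_relIndex T (oc G a g ⊓ MulAction.stabilizer G b) (oc G a g) h1
      inf_le_left] at hdvd
    rcases (Nat.Prime.dvd_mul hr'.out).mp hdvd with h2 | h2
    · rw [← oc_inf_eq h hab ht htg] at h2
      exact hT.not_dvd_index h2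
    · refine hnd g a t (Ne.symm hag) ⟨ht.1, htg⟩ ?_
      refine Nat.dvd_trans ?_ (relIndex_oc_dvd (v := t) (a := g) (b := a))
      rw [ht.2, oc_symm g a]
      exact h2
  have hsol := hsolv _ (odd_oc (G := G) a g)
  have hΘle : relCore r (oc G a b) ≤ relCore r (oc G a g) := by
    have h1 : (relCore r (oc G a b)).subgroupOf (oc G a g) ≤ Cfsg.pPrimeCore r (oc G a g) := by
      refine le_pPrimeCore_of_sylow hsol hT'.toSylow ?_ ?_
      · rw [Nat.card_congr (subgroupOfEquivOfLe (hΘag.trans inf_le_left)).toEquiv]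
        exact relCore_coprime r _
      · rw [IsMaxP.coe_toSylow]
        intro x hx
        rw [mem_subgroupOf] at hx
        have h2 : (x : G) ∈ normalizer (relCore r (oc G a b) : Set G) :=
          hΘn (le_normalizer ((hT.2.1.trans inf_le_left) hx))
        rw [mem_normalizer_iff] at h2 ⊢
        intro y
        have h3 := h2 y
        rw [mem_subgroupOf, mem_subgroupOf]
        exact h3
    have h2 := map_mono (f := (oc G a g).subtype) h1
    rwa [subgroupOf_map_subtype, inf_eq_left.mpr (hΘag.trans inf_le_left)] at h2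
  have hΘeq : relCore r (oc G a b) = relCore r (oc G a g) :=
    eq_of_le_of_card_ge hΘle (card_relCore_eq h htt r hab hag).ge
  have hΘn' : normalizer (oc G a g : Set G) ≤ normalizer (relCore r (oc G a b) : Set G) := by
    rw [hΘeq]
    exact normalizer_le_normalizer_relCore r _
  have hDg : ∀ d ∈ At z g, d ∈ normalizer (relCore r (oc G a b) : Set G) := by
    intro d hd
    obtain ⟨n, hn, rfl⟩ := exists_conj_at_oc h (Ne.symm hag) (d := t) ⟨ht.1, htg⟩ hd
    have hn' : n ∈ normalizer (relCore r (oc G a b) : Set G) := by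
      apply hΘn'
      rw [oc_symm]
      exact le_normalizer hn
    exact mul_mem (mul_mem hn' (hΘn htX)) (inv_mem hn')
  have hDa : ∀ d ∈ At z a, d ∈ normalizer (relCore r (oc G a b) : Set G) := by
    intro d hd
    obtain ⟨w, hw⟩ := TwoTrans.exists_sw h hag
    have hwn : w ∈ normalizer (relCore r (oc G a b) : Set G) :=
      hΘn' (mem_normalizer_oc (Or.inr ⟨hw.2, sw_smul_right h hw⟩))
    have h1 : w * d * w⁻¹ ∈ At z g := by
      have := conj_mem_At w hd
      rwa [hw.2] at this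
    have h2 := mul_mem (mul_mem (inv_mem hwn) (hDg _ h1)) hwn
    have e : w⁻¹ * (w * d * w⁻¹) * w = d := by group
    rwa [e] at h2
  have hΘ1 : relCore r (oc G a b) = ⊥ :=
    eq_bot_of_normalized h hf hbig hag (hΘX.trans (oc_le_left a b)) hDa hDg
  have hcore : Cfsg.pPrimeCore r (oc G a b) = ⊥ := by
    rw [relCore_def] at hΘ1
    exact (map_eq_bot_iff_of_injective _ (oc G a b).subtype_injective).mp hΘ1
  -- `Z(J(R))`
  obtain ⟨R, hR, hkR⟩ := exists_isMaxP (p := r) (C := oc G a b) (W := zpowers k) hkr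
    (by rw [zpowers_le]; exact hkX)
  have hR1 : R ≠ ⊥ := by
    intro hbot
    rw [hbot, le_bot_iff, zpowers_eq_bot] at hkR
    exact hk1 hkR
  have hXZ := Cfsg.Agent.NineCore.BenderPair.le_normalizer_centerThompsonOf (odd_oc a b)
    (hsolv _ (odd_oc a b)) hR hcore
  have hZR : Cfsg.centerThompsonOf r R ≤ R := Cfsg.Agent.PLocal.ZJElem.centerThompsonOf_le r R
  obtain ⟨v, hv⟩ := h.nonempty_At a
  obtain ⟨w, hw⟩ := h.nonempty_At b
  obtain ⟨P, hP, hvP⟩ := exists_maxP_inv h hab hv (hnd a b v hab hv)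
  obtain ⟨Q, hQ, hwQ⟩ := exists_maxP_inv h (Ne.symm hab) hw (hnd b a w (Ne.symm hab) hw)
  have h1 := at_le_normalizer_zj h hab hv hR hP hvP hXZ
  have h2 := at_le_normalizer_zj h (Ne.symm hab) hw (R := R) (by rw [oc_symm]; exact hR) hQ hwQ
    (by rw [oc_symm]; exact hXZ)
  have h3 : Cfsg.centerThompsonOf r R = ⊥ :=
    eq_bot_of_normalized h hf hbig hab ((hZR.trans hR.2.1).trans (oc_le_left a b)) h1 h2
  exact Cfsg.Agent.S0117.centerThompsonOf_ne_bot hR.1 hR1 h3

/-- a finite family of `p`-subgroups normalising each other generates a `p`-subgroup -/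
theorem isPGroup_iSup {ι : Type*} [Finite ι] {p : ℕ} (f : ι → Subgroup G)
    (hf : ∀ i, IsPGroup p (f i)) (hn : ∀ i j, f i ≤ normalizer (f j : Set G)) :
    IsPGroup p (⨆ i, f i : Subgroup G) := by
  classical
  have := Fintype.ofFinite ι
  rw [← Finset.sup_univ_eq_iSup]
  refine Finset.induction_on (Finset.univ : Finset ι) ?_ ?_
  · rw [Finset.sup_empty]; exact IsPGroup.of_bot
  · intro i S _ ih
    rw [Finset.sup_insert]
    exact IsPGroup.to_sup_of_normal_left' (hf i) ih (Finset.sup_le fun j _ => hn j i)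

/-- `O_r(O(G_{ab}))` -/
def oR (G : Type*) {Ω : Type*} [Group G] [MulAction G Ω] (r : ℕ) (a b : Ω) : Subgroup G :=
  Cfsg.piCoreOf {r} (oc G a b)

theorem oR_le (r : ℕ) (a b : Ω) : oR G r a b ≤ oc G a b := piCoreOf_le _ _

theorem oR_isPGroup [Finite G] {r : ℕ} (hr : r.Prime) (a b : Ω) : IsPGroup r (oR G r a b) :=
  isPGroup_piCoreOf hr _

theorem normalizer_le_normalizer_oR [Finite G] (r : ℕ) (a b : Ω) :
    normalizer (oc G a b : Set G) ≤ normalizer (oR G r a b : Set G) :=
  normalizer_le_normalizer_piCoreOf _ _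

theorem oR_symm (r : ℕ) (a b : Ω) : oR G r a b = oR G r b a := by
  rw [oR, oR, oc_symm]

theorem conj_mem_oR [Finite G] {r : ℕ} (hr : r.Prime) {a b : Ω} (g : G) {x : G}
    (hx : x ∈ oR G r a b) : g * x * g⁻¹ ∈ oR G r (g • a) (g • b) := by
  have h1 : (oR G r a b).map (MulAut.conj g).toMonoidHom ≤ oR G r (g • a) (g • b) := by
    refine le_core_of_isPGroup hr ?_ ?_ ((oR_isPGroup hr a b).map _)
    · rw [← oc_map_conj]
      exact map_mono (oR_le r a b)
    · rw [← oc_map_conj]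
      refine (map_mono (le_normalizer_piCoreOf {r} (oc G a b))).trans ?_
      exact le_normalizer_map _
  exact h1 ⟨x, hx, rfl⟩

/-- (3a) `O_r(X_{ab}) ≤ X_{a,yb}` for `y ∈ D_a` if `r` does not divide the index -/
theorem oR_le_oc [Finite G] (h : Setup G Ω z) {r : ℕ} [hr' : Fact r.Prime] {a b : Ω} (hab : a ≠ b)
    {y : G} (hy : y ∈ At z a) (hnd : ¬ r ∣ (st3 G y a b).relIndex (stab2 G a b)) :
    oR G r a b ≤ oc G a (y • b) := by
  obtain ⟨T, hT, -⟩ := exists_isMaxP (p := r) (C := oc G a b ⊓ MulAction.stabilizer G (y • b))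
    (W := ⊥) IsPGroup.of_bot bot_le
  have hT' : IsMaxP r (oc G a b) T := by
    refine isMaxP_of_not_dvd hT.1 (hT.2.1.trans inf_le_left) ?_
    intro hdvd
    rw [← relIndex_mul_relIndex T (oc G a b ⊓ MulAction.stabilizer G (y • b)) (oc G a b) hT.2.1
      inf_le_left] at hdvd
    rcases (Nat.Prime.dvd_mul hr'.out).mp hdvd with h1 | h1
    · exact hT.not_dvd_index h1
    · exact hnd (h1.trans relIndex_oc_dvd)
  have h1 : oR G r a b ≤ T := by
    have h2 : IsPGroup r (oR G r a b ⊔ T : Subgroup G) :=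
      IsPGroup.to_sup_of_normal_left' (oR_isPGroup hr'.out a b) hT.1
        ((hT'.2.1.trans le_normalizer).trans (normalizer_le_normalizer_oR r a b))
    exact le_sup_left.trans (hT'.2.2 _ h2 (sup_le (oR_le r a b) hT'.2.1) le_sup_right)
  have hne : a ≠ y • b := by
    intro hh
    apply hab
    have : y • a = y • y • b := congrArg (y • ·) hh
    rw [hy.2, h.smul_smul_self hy.1] at this
    exact this
  have h2 := relCore_st3 h hab hy
  have h3 := relCore_st3 h hne hy
  have h4 : st3 G y a (y • b) = st3 G y a b := by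
    ext x
    rw [mem_st3, mem_st3, h.smul_smul_self hy.1]
    tauto
  rw [h4, h2] at h3
  have h5 : oR G r a b ≤ oc G a b ⊓ MulAction.stabilizer G (y • b) := h1.trans hT.2.1
  rw [h3] at h5
  exact h5.trans inf_le_left

/-- the four-group of two commuting involutions -/
def four (s s' : G) (hs : s * s = 1) (hs' : s' * s' = 1) (hc : s * s' = s' * s) : Subgroup G where
  carrier := {g | g = 1 ∨ g = s ∨ g = s' ∨ g = s * s'}
  one_mem' := Or.inl rfl
  mul_mem' := by
    have e1 : s * (s * s') = s' := by rw [← mul_assoc, hs, one_mul]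
    have e2 : s' * (s * s') = s := by rw [hc, ← mul_assoc, hs', one_mul]
    have e3 : s * s' * s = s' := by rw [hc, mul_assoc, hs, mul_one]
    have e4 : s * s' * s' = s := by rw [mul_assoc, hs', mul_one]
    have e5 : s * s' * (s * s') = 1 := by rw [← mul_assoc, e3, hs']
    rintro x y (rfl | rfl | rfl | rfl) (rfl | rfl | rfl | rfl) <;>
      simp [hs, hs', e1, e2, e3, e4, e5, ← hc]
  inv_mem' := by
    have hi : s⁻¹ = s := inv_eq_of_mul_eq_one_right hs
    have hi' : s'⁻¹ = s' := inv_eq_of_mul_eq_one_right hs'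
    rintro x (rfl | rfl | rfl | rfl)
    · left; exact inv_one
    · right; left; exact hi
    · right; right; left; exact hi'
    · right; right; right; rw [mul_inv_rev, hi, hi', hc]

theorem mem_four {s s' : G} {hs : s * s = 1} {hs' : s' * s' = 1} {hc : s * s' = s' * s} {g : G} :
    g ∈ four s s' hs hs' hc ↔ g = 1 ∨ g = s ∨ g = s' ∨ g = s * s' := Iff.rfl

/-- (3c), (3d) an element `s ∈ D_a` with a commuting partner centralises `O_r(O(G_{ab}))` -/
theorem commute_oR [Finite G] (hsolv : ∀ K : Subgroup G, Odd (Nat.card K) → Group.IsSolvable K)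
    (h : Setup G Ω z) (hf : ∀ g : G, (∀ a : Ω, g • a = a) → g = 1)
    (htt : ∀ a b c : Ω, a ≠ b → a ≠ c → ∃ g : G, g • a = a ∧ g • b = c) (hbig : Big G Ω z)
    {r : ℕ} [hr' : Fact r.Prime] (hr : Odd r)
    (hnd : ∀ (a b : Ω) (v : G), a ≠ b → v ∈ At z a →
      ¬ r ∣ (st3 G v a b).relIndex (stab2 G a b)) {a b : Ω} (hab : a ≠ b) {s s' : G}
    (hs : s ∈ At z a) (hs' : s' ∈ At z a) (hne : s ≠ s') (hc : Commute s s') :
    ∀ u ∈ oR G r a b, Commute s u := by
  have hss := h.mul_self hs.1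
  have hss' := h.mul_self hs'.1
  set E := four s s' hss hss' hc.eq with hE
  have hEs : s ∈ E := Or.inr (Or.inl rfl)
  have hEs' : s' ∈ E := Or.inr (Or.inr (Or.inl rfl))
  have hprod : s * s' ∈ At z a := by
    refine ⟨mul_mem_class h hf hs.1 hs'.1 hc hne, ?_⟩
    rw [mul_smul, hs'.2, hs.2]
  have hED : ∀ y ∈ E, y = 1 ∨ y ∈ At z a := by
    rintro y (rfl | rfl | rfl | rfl)
    · exact Or.inl rfl
    · exact Or.inr hs
    · exact Or.inr hs'
    · exact Or.inr hprod
  have hEa : ∀ y ∈ E, y • a = a := by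
    intro y hy
    rcases hED y hy with rfl | hy
    · exact one_smul _ _
    · exact hy.2
  have hEb : ∀ y ∈ E, a ≠ y • b := by
    intro y hy hh
    apply hab
    apply smul_left_cancel y
    rw [hEa y hy, ← hh]
  -- every `O_r(X_{a,yb})` lies in `X_{a,y'b}`
  have hle : ∀ y ∈ E, ∀ y' ∈ E, oR G r a (y • b) ≤ oc G a (y' • b) := by
    intro y hy y' hy'
    have h1 : y' * y⁻¹ ∈ E := mul_mem hy' (inv_mem hy)
    have h2 : y' • b = (y' * y⁻¹) • (y • b) := by rw [mul_smul, inv_smul_smul]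
    rcases hED _ h1 with h3 | h3
    · rw [h2, h3, one_smul]
      exact oR_le r a _
    · rw [h2]
      exact oR_le_oc h (hEb y hy) h3 (hnd _ _ _ (hEb y hy) h3)
  set X : Subgroup G := ⨆ y : E, oR G r a ((y : G) • b) with hX
  have hXp : IsPGroup r X := by
    refine isPGroup_iSup _ (fun y => oR_isPGroup hr'.out _ _) (fun y y' => ?_)
    exact ((hle y y.2 y' y'.2).trans le_normalizer).trans (normalizer_le_normalizer_oR r _ _)
  have hXle : ∀ y ∈ E, X ≤ oc G a (y • b) := fun y hy => iSup_le fun y' => hle y' y'.2 y hy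
  have hXinv : ∀ y ∈ E, ∀ u ∈ X, y * u * y⁻¹ ∈ X := by
    intro y hy
    have h1 : X ≤ X.comap (MulAut.conj y).toMonoidHom := by
      refine iSup_le fun y' => ?_
      intro u hu
      show y * u * y⁻¹ ∈ X
      have h2 := conj_mem_oR hr'.out y hu
      rw [hEa y hy, smul_smul] at h2
      exact (le_iSup (fun w : E => oR G r a ((w : G) • b)) ⟨y * y', mul_mem hy y'.2⟩) h2
    exact fun u hu => h1 hu
  have hXo : Odd (Nat.card X) := odd_of_isPGroup hr hXp
  -- fixed points of `w ∈ {s', s s'}` are centralised by `s`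
  have hfix : ∀ w ∈ At z a, Commute s w → ∀ u ∈ X, Commute u w → Commute s u := by
    intro w hw hsw u hu huw
    by_contra hcon
    set k := s * u * s⁻¹ * u⁻¹ with hk
    have hk1 : k ≠ 1 := by
      intro h1
      apply hcon
      show s * u = u * s
      calc s * u = (s * u * s⁻¹ * u⁻¹) * (u * s) := by group
        _ = u * s := by rw [← hk, h1, one_mul]
    have hkX : k ∈ X := mul_mem (hXinv s hEs u hu) (inv_mem hu)
    have hsi := h.inv_eq hs.1
    have hski : s * k * s⁻¹ = k⁻¹ := by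
      rw [hk, hsi]
      calc s * (s * u * s * u⁻¹) * s = (s * s) * u * s * u⁻¹ * s := by group
        _ = u * s * u⁻¹ * s := by rw [hss, one_mul]
        _ = u * s⁻¹ * u⁻¹ * s⁻¹ := by rw [hsi]
        _ = (s * u * s * u⁻¹)⁻¹ := by rw [mul_inv_rev, mul_inv_rev, mul_inv_rev, inv_inv]; group
    have hkw : Commute w k := by
      rw [hk]
      exact ((hsw.symm.mul_right huw.symm).mul_right hsw.symm.inv_right).mul_right
        huw.symm.inv_right
    have hbs : b ≠ s • b := fun hh => hab (h.uniq hs.1 hs.2 hh.symm)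
    refine step2 hsolv h hf htt hbig hr hnd hbs (t := s) (k := k) ⟨hs.1, rfl⟩ ?_
      (hXp.to_le (zpowers_le.mpr hkX)) hk1 hski ⟨w, hw.1, hkw⟩
    have h1 := hXle 1 (one_mem E) hkX
    rw [one_smul] at h1
    exact ⟨(oc_le a b h1).2, (oc_le a (s • b) (hXle s hEs hkX)).2⟩
  have hXC : X ≤ centralizer ({s} : Set G) := by
    refine Cfsg.Agent.Lib.KleinGen.le_of_klein X _ hXo s s' hss hss' hc.eq (hXinv s hEs)
      (hXinv s' hEs') inf_le_right ?_ ?_
    · rintro u ⟨hu, hus⟩
      rw [mem_centralizer_singleton_iff]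
      exact (hfix s' hs' hc u hu (mem_centralizer_singleton_iff.mp hus)).symm
    · rintro u ⟨hu, hus⟩
      rw [mem_centralizer_singleton_iff]
      exact (hfix (s * s') hprod ((Commute.refl s).mul_right hc) u hu
        (mem_centralizer_singleton_iff.mp hus)).symm
  intro u hu
  have h1 : u ∈ X := by
    have h2 : u ∈ oR G r a (((1 : E) : G) • b) := by
      rw [coe_one, one_smul]; exact hu
    exact (le_iSup (fun w : E => oR G r a ((w : G) • b)) 1) h2
  exact (mem_centralizer_singleton_iff.mp (hXC h1)).symm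

/-- **Step 3.** `O_r(O(G_{ab})) = 1` if the odd prime `r` does not divide the index. -/
theorem step3 [Finite G] (hsolv : ∀ K : Subgroup G, Odd (Nat.card K) → Group.IsSolvable K)
    (h : Setup G Ω z) (hf : ∀ g : G, (∀ a : Ω, g • a = a) → g = 1)
    (htt : ∀ a b c : Ω, a ≠ b → a ≠ c → ∃ g : G, g • a = a ∧ g • b = c) (hbig : Big G Ω z)
    (hpair : ∀ a : Ω, ∀ s ∈ At z a, ∃ s' ∈ At z a, s ≠ s' ∧ Commute s s')
    {r : ℕ} [hr' : Fact r.Prime] (hr : Odd r)
    (hnd : ∀ (a b : Ω) (v : G), a ≠ b → v ∈ At z a →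
      ¬ r ∣ (st3 G v a b).relIndex (stab2 G a b)) {a b : Ω} (hab : a ≠ b) : oR G r a b = ⊥ := by
  have key : ∀ a b : Ω, a ≠ b → ∀ d ∈ At z a, d ∈ normalizer (oR G r a b : Set G) := by
    intro a b hab d hd
    obtain ⟨d', hd', hne, hc⟩ := hpair a d hd
    have h1 := commute_oR hsolv h hf htt hbig hr hnd hab hd hd' hne hc
    have hdd := h.mul_self hd.1
    refine Inv.mem_normalizer hdd ?_
    intro u hu
    rw [(h1 u hu).eq]
    have e : u * d * d⁻¹ = u := by group
    rwa [e]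
  refine eq_bot_of_normalized h hf hbig hab ((oR_le r a b).trans (oc_le_left a b)) (key a b hab) ?_
  intro d hd
  rw [oR_symm]
  exact key b a (Ne.symm hab) d hd

/-- **Claim N** for an element of prime order -/
theorem claimN_prime [Finite G]
    (hsolv : ∀ K : Subgroup G, Odd (Nat.card K) → Group.IsSolvable K)
    (h : Setup G Ω z) (hf : ∀ g : G, (∀ a : Ω, g • a = a) → g = 1)
    (htt : ∀ a b c : Ω, a ≠ b → a ≠ c → ∃ g : G, g • a = a ∧ g • b = c) (hbig : Big G Ω z)
    (hpair : ∀ a : Ω, ∀ s ∈ At z a, ∃ s' ∈ At z a, s ≠ s' ∧ Commute s s')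
    (hRG : ∀ p : ℕ, Dag G Ω z p → ∀ U : Subgroup G, IsPGroup p U → ∀ (x : Ω) (w : G),
      w ∈ At z x → Inv w U → x ∈ Fx Ω U → ∀ u ∈ U, Commute w u)
    {a b g : Ω} (hab : a ≠ b) {t k : G} (ht : t ∈ Sw z a b) (htg : t • g = g)
    (hk : k ∈ stab2 G a b) (hkg : k • g = g) {r : ℕ} [hr' : Fact r.Prime] (hr : Odd r)
    (hkr : orderOf k = r) (htk : t * k * t⁻¹ = k⁻¹) : False := by
  have hk1 : k ≠ 1 := by
    rintro rfl
    rw [orderOf_one] at hkr
    exact hr'.out.one_lt.ne hkr
  have hko : Odd (orderOf k) := by rw [hkr]; exact hr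
  have hkk := mul_self_ne_one hko hk1
  have hti := h.inv_eq ht.1
  have hzt : ∀ u ∈ zpowers k, t * u * t⁻¹ ∈ zpowers k := by
    intro u hu
    obtain ⟨m, rfl⟩ := mem_zpowers_iff.mp hu
    rw [← conj_zpow, htk]
    exact zpow_mem (inv_mem (mem_zpowers k)) m
  have hkP : IsPGroup r (zpowers k) := isPGroup_zpowers hr'.out hkr
  -- (i) `r` does not divide the index
  have hnd : ∀ (a b : Ω) (v : G), a ≠ b → v ∈ At z a →
      ¬ r ∣ (st3 G v a b).relIndex (stab2 G a b) := by
    intro a b v hab hv hdvd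
    have hdag := dag_of_dvd h htt hr'.out hr hab hv hdvd
    have h1 := hRG r hdag (zpowers k) hkP g t ⟨ht.1, htg⟩ hzt (by
      intro u hu
      obtain ⟨m, rfl⟩ := mem_zpowers_iff.mp hu
      have : zpowers k ≤ MulAction.stabilizer G g := by rw [zpowers_le]; exact hkg
      exact this (zpow_mem (mem_zpowers k) m)) k (mem_zpowers k)
    apply hkk
    have h2 : t * k * t⁻¹ = k := by rw [h1.eq]; group
    rw [htk] at h2
    calc k * k = k⁻¹ * k := by rw [h2]
      _ = 1 := by group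
  have hkX := mem_oc_of_inverted h hab ht hk hko htk
  have htX : t ∈ normalizer (oc G a b : Set G) :=
    mem_normalizer_oc (Or.inr ⟨ht.2, sw_smul_right h ht⟩)
  have htkD := isConj_mul_of_inverted h ht.1 hko htk
  have htkg : (t * k) • g = g := by rw [mul_smul, hkg, htg]
  -- (ii) `k` centralises every `O_q(X)`
  have hcen : ∀ q : ℕ, q.Prime → zpowers k ≤ centralizer (Cfsg.piCoreOf {q} (oc G a b) : Set G) := by
    intro q hq
    have hq' : Fact q.Prime := ⟨hq⟩
    rw [zpowers_le, mem_centralizer_iff]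
    have hVp : IsPGroup q (oR G q a b) := oR_isPGroup hq a b
    have hVo : Odd (Nat.card (oR G q a b)) := (odd_oc a b).of_dvd_nat (card_dvd_of_le (oR_le q a b))
    by_cases hV1 : oR G q a b = ⊥
    · intro v hv
      have : v ∈ oR G q a b := hv
      rw [hV1, mem_bot] at this
      rw [this, one_mul, mul_one]
    -- `q` is odd
    have hqo : Odd q := by
      rcases hq.eq_two_or_odd' with rfl | h1
      · exfalso
        obtain ⟨n, hn⟩ := IsPGroup.iff_card.mp hVp
        apply hV1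
        apply Subgroup.eq_bot_of_card_eq
        rcases n with _ | n
        · rw [hn, pow_zero]
        · rw [hn, pow_succ] at hVo
          exact absurd hVo (by rw [Nat.not_odd_iff_even]; exact Even.mul_left (by decide) _)
      · exact h1
    -- `q` divides the index
    have hdag : Dag G Ω z q := by
      by_contra hcon
      apply hV1
      exact step3 hsolv h hf htt hbig hpair hqo (fun c d v hcd hv hdvd =>
        hcon (dag_of_dvd h htt hq hqo hcd hv hdvd)) hab
    have hqr : q ≠ r := by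
      rintro rfl
      obtain ⟨v, hv⟩ := h.nonempty_At a
      exact hnd a b v hab hv (hdag.dvd a b hab v hv)
    have hkV : k ∈ normalizer (oR G q a b : Set G) :=
      normalizer_le_normalizer_oR q a b (le_normalizer hkX)
    have htV : t ∈ normalizer (oR G q a b : Set G) := normalizer_le_normalizer_oR q a b htX
    -- elements of `V ∩ G_g` are centralised by `t` and `t k`
    have hVg : ∀ u ∈ oR G q a b, u • g = g → Commute k u := by
      intro u hu hug
      set W : Subgroup G := oR G q a b ⊓ MulAction.stabilizer G g with hW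
      have hWp : IsPGroup q W := hVp.to_le inf_le_left
      have hWinv : ∀ w : G, w ∈ normalizer (oR G q a b : Set G) → w • g = g → Inv w W := by
        intro w hw hwg x hx
        refine ⟨(mem_normalizer_iff.mp hw x).mp hx.1, ?_⟩
        have hwg' : w ∈ MulAction.stabilizer G g := hwg
        exact (MulAction.stabilizer G g).mul_mem ((MulAction.stabilizer G g).mul_mem hwg' hx.2)
          ((MulAction.stabilizer G g).inv_mem hwg')
      have hWg : g ∈ Fx Ω W := fun x hx => hx.2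
      have h1 := hRG q hdag W hWp g t ⟨ht.1, htg⟩ (hWinv t htV htg) hWg u ⟨hu, hug⟩
      have h2 := hRG q hdag W hWp g (t * k) ⟨htkD, htkg⟩ (hWinv (t * k) (mul_mem htV hkV) htkg)
        hWg u ⟨hu, hug⟩
      have h3 : k = t * (t * k) := by rw [← mul_assoc, h.mul_self ht.1, one_mul]
      rw [h3]
      exact h1.mul_left h2
    have h4 : oR G q a b ≤ centralizer ({k} : Set G) := by
      refine Cfsg.Agent.StrongEmb.DihedralGen.le_centralizer_of_fixed' hVo hkV htV
        (h.mul_self ht.1) htk ?_ ?_ ?_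
      · rw [hkr]
        obtain ⟨n, hn⟩ := IsPGroup.iff_card.mp hVp
        rw [hn]
        exact Nat.Coprime.pow_right n ((Nat.coprime_primes hr'.out hq).mpr (Ne.symm hqr))
      · intro x hx hxt
        exact hVg x hx (h.fix_of_commute ht.1 hxt.symm htg)
      · intro x hx hxt
        exact hVg x hx (h.fix_of_commute htkD hxt.symm htkg)
    intro v hv
    exact mem_centralizer_singleton_iff.mp (h4 hv)
  -- (iii) `k ∈ F(X)`, so `k ∈ O_r(X) = 1`
  have h5 := Cfsg.Agent.NineCore.BenderPair.le_fitting_of_forall (hsolv _ (odd_oc a b))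
    (zpowers_le.mpr hkX) hcen
  have h6 := le_core_of_le_fittingOf hr'.out h5 hkP
  have h7 : zpowers k ≤ oR G r a b := h6
  rw [step3 hsolv h hf htt hbig hpair hr hnd hab, le_bot_iff, zpowers_eq_bot] at h7
  exact hk1 h7

/-- **Claim N.** -/
theorem claimN [Finite G] (hsolv : ∀ K : Subgroup G, Odd (Nat.card K) → Group.IsSolvable K)
    (h : Setup G Ω z) (hf : ∀ g : G, (∀ a : Ω, g • a = a) → g = 1)
    (htt : ∀ a b c : Ω, a ≠ b → a ≠ c → ∃ g : G, g • a = a ∧ g • b = c)
    (hbig : ∀ a b : Ω, a ≠ b → closure (At z a ∪ At z b) = ⊤)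
    (hpair : ∀ a : Ω, ∀ s ∈ At z a, ∃ s' ∈ At z a, s ≠ s' ∧ Commute s s')
    (hRG : ∀ p : ℕ, Dag G Ω z p → ∀ U : Subgroup G, IsPGroup p U → ∀ (x : Ω) (w : G),
      w ∈ At z x → Inv w U → x ∈ Fx Ω U → ∀ u ∈ U, Commute w u) :
    ∀ v, IsConj z v → ∀ k : G, Odd (orderOf k) → v * k * v⁻¹ = k⁻¹ →
      ∀ x g : Ω, v • g = g → k • g = g → k • x = x → x ≠ g → k = 1 := by
  have hbig' : Big G Ω z := by
    intro a b hab N ha hb
    rw [← top_le_iff, ← hbig a b hab, closure_le]
    rintro d (hd | hd)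
    · exact ha d hd
    · exact hb d hd
  intro v hv k hko hvk x g hvg hkg hkx hxg
  by_contra hk1
  have hne : orderOf k ≠ 1 := fun h1 => hk1 (orderOf_eq_one_iff.mp h1)
  obtain ⟨r, hr', hrk⟩ := Nat.exists_prime_and_dvd hne
  have hrF : Fact r.Prime := ⟨hr'⟩
  have hr : Odd r := hko.of_dvd_nat hrk
  obtain ⟨m, hm⟩ := hrk
  have hm0 : m ≠ 0 := by
    rintro rfl
    rw [mul_zero] at hm
    exact (orderOf_pos k).ne' hm
  have hkm : orderOf (k ^ m) = r := by
    rw [orderOf_pow_of_dvd hm0 (Dvd.intro_left r hm.symm), hm]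
    exact Nat.mul_div_cancel _ (Nat.pos_of_ne_zero hm0)
  have hxv : x ≠ v • x := fun hh => hxg (h.uniq hv hh.symm hvg)
  have hinv : v * k ^ m * v⁻¹ = (k ^ m)⁻¹ := by rw [← conj_pow, hvk, inv_pow]
  have hmx : k ^ m ∈ MulAction.stabilizer G x :=
    pow_mem (show k ∈ MulAction.stabilizer G x from hkx) m
  have hmg : k ^ m ∈ MulAction.stabilizer G g :=
    pow_mem (show k ∈ MulAction.stabilizer G g from hkg) m
  refine claimN_prime hsolv h hf htt hbig' hpair hRG hxv (t := v) (k := k ^ m) (g := g)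
    ⟨hv, rfl⟩ hvg ⟨hmx, ?_⟩ hmg hr hkm hinv
  show k ^ m • v • x = v • x
  have h1 : k ^ m * v = v * (k ^ m)⁻¹ := by
    have h2 : v * (k ^ m)⁻¹ * v⁻¹ = k ^ m := by
      rw [← hinv]
      have h3 := h.mul_self hv
      have h4 := h.inv_eq hv
      rw [h4]
      calc v * (v * k ^ m * v) * v = (v * v) * k ^ m * (v * v) := by group
        _ = k ^ m := by rw [h3]; group
    calc k ^ m * v = (v * (k ^ m)⁻¹ * v⁻¹) * v := by rw [h2]
      _ = v * (k ^ m)⁻¹ := by group
  rw [smul_smul, h1, mul_smul]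
  have h5 : (k ^ m)⁻¹ • x = x := (MulAction.stabilizer G x).inv_mem hmx
  rw [h5]

end Cfsg.Agent.AschCrit.ClaimN.Steps
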