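import Cfsg.Agent.AschCrit.CoreCentral

/-!
# Aschbacher's criterion: the stabiliser of three points `a, b, g = Fix(t)`, `t ∈ D` swapping `a, b`

* `relCore_eq` : `O(H) = O(G_{ab}) ∩ H` if `H ≤ G_{ab} = O(G_{ab}) H`
* `relCore_st3` : `O(G_{a,b,vb}) = O(G_{ab}) ∩ G_{vb}` for `v ∈ D_a`
* `oc_inf_eq` : `O(G_{ab}) ∩ G_g = O(G_{ag}) ∩ G_b` for `t ∈ D` swapping `a`, `b` and fixing `g`
* `fix_of_normalizer` (F9) : if `t ∈ D_g` inverts `k`, `k² ≠ 1`, and `D ∩ C(k) ≠ ∅` then `N(⟨k⟩) ≤ G_g`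
* `relIndex_eq` : in the 2-transitive case the indices `|G_{ab} : G_{a,b,vb}|` are equal
* `not_dvd_relIndex_oc` : `r ∤ |O(G_{ab}) : O(G_{ab}) ∩ G_{vb}|` if `r ∤ |G_{ab} : G_{a,b,vb}|`
-/

set_option autoImplicit false

open Subgroup

namespace Cfsg.Agent.AschCrit.ClaimN.Third

open Cfsg.Agent.TwoFusion.StronglyEmbeddedBasic Cfsg.Agent.AschCrit.Basic
open Cfsg.Agent.AschCrit.Basic.Setup Cfsg.Agent.AschCrit.Closed Cfsg.Agent.AschCrit.IsolatedSwap
open Cfsg.Agent.AschCrit.OddInv Cfsg.Agent.SignalizersComponents.RelSylow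
open Cfsg.Agent.SignalizersComponents.PLayerAut Cfsg.Agent.AschCrit.Dagger
open Cfsg.Agent.AschCrit.TwoTrans Cfsg.Agent.AschCrit.CoreCentral

variable {G Ω : Type*} [Group G] [MulAction G Ω] {z : G}

/-- `O(H) = O(G_{ab}) ∩ H` if `H ≤ G_{ab} = O(G_{ab}) H` -/
theorem relCore_eq [Finite G] {a b : Ω} {H : Subgroup G} (hH : H ≤ stab2 G a b)
    (hJ : ∀ g ∈ stab2 G a b, ∃ x ∈ oc G a b, ∃ y ∈ H, g = x * y) :
    relCore 2 H = oc G a b ⊓ H := by
  have hJX : stab2 G a b ≤ normalizer (oc G a b : Set G) := by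
    intro g hg
    exact mem_normalizer_oc (Or.inl hg)
  apply le_antisymm
  · refine le_inf ?_ (relCore_le 2 H)
    have hcJ : relCore 2 H ≤ stab2 G a b := (relCore_le 2 H).trans hH
    have hsup : oc G a b ⊔ relCore 2 H ≤ oc G a b := by
      refine le_oc (sup_le (oc_le a b) hcJ) ?_
        (odd_sup (odd_oc a b) (odd_relCore H) (hcJ.trans hJX))
      have key : ∀ y ∈ H, y ∈ normalizer ((oc G a b ⊔ relCore 2 H : Subgroup G) : Set G) := by
        intro y hy
        exact normalizer_inf_normalizer_le_normalizer_sup _ _ ⟨hJX (hH hy),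
          normalizer_le_normalizer_relCore 2 H (le_normalizer hy)⟩
      intro g hg
      obtain ⟨x, hx, y, hy, rfl⟩ := hJ g hg
      exact mul_mem (le_normalizer (le_sup_left (a := oc G a b) hx)) (key y hy)
    exact le_sup_right.trans hsup
  · refine le_relCore inf_le_right ((odd_oc a b).of_dvd_nat (card_dvd_of_le inf_le_left)) ?_
    intro g hg
    exact inf_normalizer_le_normalizer_inf ⟨hJX (hH hg), le_normalizer hg⟩

/-- `G_{ab} = O(G_{ab}) G_{a,b,vb}` -/
theorem exists_mul_st3 [Finite G] (h : Setup G Ω z) {a b : Ω} (hab : a ≠ b) {v : G}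
    (hv : v ∈ At z a) : ∀ g ∈ stab2 G a b, ∃ x ∈ oc G a b, ∃ y ∈ st3 G v a b, g = x * y := by
  intro g hg
  have h1 : g * v * g⁻¹ ∈ At z a := by
    have := conj_mem_At g hv
    rwa [hg.1] at this
  obtain ⟨n, hn, hnv⟩ := exists_conj_at_oc h hab hv h1
  refine ⟨n, hn, n⁻¹ * g, ?_, by group⟩
  have h2 : n⁻¹ * g ∈ stab2 G a b := mul_mem (inv_mem (oc_le a b hn)) hg
  refine ⟨h2, ?_⟩
  show (n⁻¹ * g) • v • b = v • b
  have h3 : (n⁻¹ * g) * v = v * (n⁻¹ * g) := by
    calc (n⁻¹ * g) * v = n⁻¹ * (g * v * g⁻¹) * g := by group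
      _ = n⁻¹ * (n * v * n⁻¹) * g := by rw [hnv]
      _ = v * (n⁻¹ * g) := by group
  rw [smul_smul, h3, mul_smul, h2.2]

/-- `O(G_{a,b,vb}) = O(G_{ab}) ∩ G_{vb}` -/
theorem relCore_st3 [Finite G] (h : Setup G Ω z) {a b : Ω} (hab : a ≠ b) {v : G}
    (hv : v ∈ At z a) : relCore 2 (st3 G v a b) = oc G a b ⊓ MulAction.stabilizer G (v • b) := by
  rw [relCore_eq (st3_le v a b) (exists_mul_st3 h hab hv)]
  apply le_antisymm
  · exact inf_le_inf_left _ inf_le_right
  · exact le_inf inf_le_left (le_inf (inf_le_left.trans (oc_le a b)) inf_le_right)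

/-- `O(G_{ab}) ∩ G_g = O(G_{ag}) ∩ G_b` for `t ∈ D` swapping `a`, `b` and fixing `g` -/
theorem oc_inf_eq [Finite G] (h : Setup G Ω z) {a b g : Ω} (hab : a ≠ b) {t : G}
    (ht : t ∈ Sw z a b) (htg : t • g = g) :
    oc G a b ⊓ MulAction.stabilizer G g = oc G a g ⊓ MulAction.stabilizer G b := by
  have hga : g ≠ a := by
    rintro rfl
    exact hab (htg.symm.trans ht.2)
  -- the pair `g, a`
  have h1 := relCore_st3 h hga (v := t) ⟨ht.1, htg⟩
  rw [ht.2] at h1
  -- the pair `a, b`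
  have h2 : st3 G t g a ≤ stab2 G a b := by
    rintro x ⟨⟨-, hx1⟩, hx2⟩
    rw [ht.2] at hx2
    exact ⟨hx1, hx2⟩
  have h3 := relCore_eq h2 (by
    intro x hx
    obtain ⟨n, hn, c, hc, hct, rfl⟩ := exists_mul_sw h hab ht hx
    refine ⟨n, hn, c, ?_, rfl⟩
    refine ⟨⟨h.fix_of_commute ht.1 hct htg, hc.1⟩, ?_⟩
    rw [ht.2]
    exact hc.2)
  have h4 : oc G a b ⊓ st3 G t g a = oc G a b ⊓ MulAction.stabilizer G g := by
    apply le_antisymm
    · exact inf_le_inf_left _ (inf_le_left.trans inf_le_left)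
    · refine le_inf inf_le_left ?_
      rintro x ⟨hx, hxg⟩
      refine ⟨⟨hxg, (oc_le a b hx).1⟩, ?_⟩
      rw [ht.2]
      exact (oc_le a b hx).2
  rw [← h4, ← h3, h1, oc_symm]

/-- (F9) if `t ∈ D_g` inverts `k`, `k² ≠ 1`, and `D ∩ C(k) ≠ ∅` then `N(⟨k⟩) ≤ G_g`. -/
theorem fix_of_normalizer [Finite G] (h : Setup G Ω z) {t k : G} (ht : IsConj z t)
    (hk : k * k ≠ 1) (htk : t * k * t⁻¹ = k⁻¹) {g : Ω} (htg : t • g = g)
    (hd : ∃ d, IsConj z d ∧ Commute d k) {n : G} (hn : n ∈ normalizer (zpowers k : Set G)) :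
    n • g = g := by
  have htn : t ∈ normalizer (zpowers k : Set G) := by
    refine Inv.mem_normalizer (h.mul_self ht) ?_
    intro u hu
    obtain ⟨m, rfl⟩ := mem_zpowers_iff.mp hu
    rw [← conj_zpow, htk]
    exact zpow_mem (inv_mem (mem_zpowers k)) m
  have hcomm : ∀ c : G, Commute c k → ∀ n ∈ normalizer (zpowers k : Set G),
      Commute (n * c * n⁻¹) k := by
    intro c hc n hn
    have h1 : n⁻¹ * k * n ∈ zpowers k := by
      have := (mem_normalizer_iff.mp (inv_mem hn) k).mp (mem_zpowers k)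
      rwa [inv_inv] at this
    obtain ⟨m, hm⟩ := mem_zpowers_iff.mp h1
    have h2 : Commute c (n⁻¹ * k * n) := by
      rw [← hm]; exact hc.zpow_right m
    show n * c * n⁻¹ * k = k * (n * c * n⁻¹)
    calc n * c * n⁻¹ * k = n * (c * (n⁻¹ * k * n)) * n⁻¹ := by group
      _ = n * ((n⁻¹ * k * n) * c) * n⁻¹ := by rw [h2.eq]
      _ = k * (n * c * n⁻¹) := by group
  have hdn : ∀ d : G, Commute d k → d ∈ normalizer (zpowers k : Set G) := by
    intro d hd
    rw [mem_normalizer_iff]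
    intro u
    have key : ∀ u ∈ zpowers k, d * u * d⁻¹ = u := by
      intro u hu
      obtain ⟨m, rfl⟩ := mem_zpowers_iff.mp hu
      have := (hd.zpow_right m).eq
      rw [this]; group
    constructor
    · intro hu
      rw [key u hu]; exact hu
    · intro hu
      have h1 := key _ hu
      have h2 : d * u * d⁻¹ = u := by
        have h3 : d⁻¹ * (d * (d * u * d⁻¹) * d⁻¹) * d = d⁻¹ * (d * u * d⁻¹) * d := by rw [h1]
        have h4 : d⁻¹ * (d * (d * u * d⁻¹) * d⁻¹) * d = d * u * d⁻¹ := by group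
        have h5 : d⁻¹ * (d * u * d⁻¹) * d = u := by group
        rwa [h4, h5] at h3
      rwa [h2] at hu
  -- every element of `D ∩ C(k)` fixes `g`
  have hfix : ∀ d : G, IsConj z d → Commute d k → d • g = g := by
    intro d hd hdk
    obtain ⟨c, hc⟩ := h.ex hd
    by_cases hcg : c = g
    · rwa [hcg] at hc
    · exfalso
      obtain ⟨n, hn, hnd⟩ := h.exists_conj_mem (normalizer (zpowers k : Set G)) hcg ⟨hd, hc⟩
        ⟨ht, htg⟩ (hdn d hdk) htn hd ht (hdn d hdk) htn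
      have h1 := hcomm d hdk n hn
      rw [hnd] at h1
      apply hk
      have h2 : t * k * t⁻¹ = k := by rw [h1.eq]; group
      rw [htk] at h2
      calc k * k = k⁻¹ * k := by rw [h2]
        _ = 1 := by group
  obtain ⟨d, hd, hdk⟩ := hd
  have h1 := hfix d hd hdk
  have h2 := hfix (n * d * n⁻¹) (conj_mem hd n) (hcomm d hdk n hn)
  have h3 : (n * d * n⁻¹) • n • g = n • g := by
    rw [mul_smul, mul_smul, inv_smul_smul, h1]
  exact (h.uniq (conj_mem hd n) h2 h3).symm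

/-- in the 2-transitive case the indices `|G_{ab} : G_{a,b,vb}|` are equal -/
theorem relIndex_eq [Finite G] (h : Setup G Ω z)
    (htt : ∀ a b c : Ω, a ≠ b → a ≠ c → ∃ g : G, g • a = a ∧ g • b = c) {a b c d : Ω}
    (hab : a ≠ b) (hcd : c ≠ d) {v w : G} (hv : v ∈ At z a) (hw : w ∈ At z c) :
    (st3 G v a b).relIndex (stab2 G a b) = (st3 G w c d).relIndex (stab2 G c d) := by
  obtain ⟨g₁, hg₁⟩ := h.trans a c
  have hne : c ≠ g₁ • b := by
    rw [← hg₁]
    exact fun hh => hab (smul_left_cancel g₁ hh)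
  obtain ⟨g₂, hg₂, hg₂b⟩ := htt c (g₁ • b) d hne hcd
  set k := g₂ * g₁ with hk
  have hka : k • a = c := by rw [hk, mul_smul, hg₁, hg₂]
  have hkb : k • b = d := by rw [hk, mul_smul, hg₂b]
  have h1 := relIndex_st3_conj k v a b
  rw [hka, hkb] at h1
  have h2 : k * v * k⁻¹ ∈ At z c := by
    have := conj_mem_At k hv
    rwa [hka] at this
  obtain ⟨n, hn, hnv⟩ := exists_conj_at_oc h hcd h2 hw
  have h3 := relIndex_st3_conj n (k * v * k⁻¹) c d
  rw [hnv, (oc_le c d hn).1, (oc_le c d hn).2] at h3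
  rw [← h1, ← h3]

/-- `|O(G_{ab}) : O(G_{ab}) ∩ G_{vb}|` divides `|G_{ab} : G_{a,b,vb}|` -/
theorem relIndex_oc_dvd [Finite G] {a b : Ω} {v : G} :
    (oc G a b ⊓ MulAction.stabilizer G (v • b)).relIndex (oc G a b) ∣
      (st3 G v a b).relIndex (stab2 G a b) := by
  have h1 : oc G a b ⊓ MulAction.stabilizer G (v • b) = oc G a b ⊓ st3 G v a b := by
    apply le_antisymm
    · exact le_inf inf_le_left (le_inf (inf_le_left.trans (oc_le a b)) inf_le_right)
    · exact inf_le_inf_left _ inf_le_right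
  rw [h1, inf_relIndex_left]
  exact relIndex_dvd (oc_le a b) (st3_le v a b) (fun g hg => mem_normalizer_oc (Or.inl hg))

/-- `|O(G_{ab}) : O(G_{ab}) ∩ G_g|`, `g = Fix t`, `t ∈ D` swapping `a`, `b`, divides the index -/
theorem relIndex_oc_dvd' [Finite G] (h : Setup G Ω z)
    (htt : ∀ a b c : Ω, a ≠ b → a ≠ c → ∃ g : G, g • a = a ∧ g • b = c) {a b g : Ω}
    (hab : a ≠ b) {t : G} (ht : t ∈ Sw z a b) (htg : t • g = g) {c d : Ω} (hcd : c ≠ d) {v : G}
    (hv : v ∈ At z c) :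
    (oc G a b ⊓ MulAction.stabilizer G g).relIndex (oc G a b) ∣
      (st3 G v c d).relIndex (stab2 G c d) := by
  have hga : g ≠ a := by
    rintro rfl
    exact hab (htg.symm.trans ht.2)
  -- same order as for the pair `g, a`
  have h1 : oc G a b ⊓ MulAction.stabilizer G g = oc G g a ⊓ MulAction.stabilizer G (t • a) := by
    rw [oc_inf_eq h hab ht htg, ht.2, oc_symm a g]
  obtain ⟨g₁, hg₁⟩ := h.trans a g
  have hne : g ≠ g₁ • b := by
    rw [← hg₁]
    exact fun hh => hab (smul_left_cancel g₁ hh)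
  obtain ⟨g₂, hg₂, hg₂b⟩ := htt g (g₁ • b) a hne hga
  have h2 : (oc G a b).map (MulAut.conj (g₂ * g₁)).toMonoidHom = oc G g a := by
    rw [oc_map_conj, mul_smul, mul_smul, hg₁, hg₂, hg₂b]
  have h3 : Nat.card (oc G a b) = Nat.card (oc G g a) := by
    rw [← h2]
    exact Nat.card_congr
      ((oc G a b).equivMapOfInjective _ (MulAut.conj (g₂ * g₁)).injective).toEquiv
  have h4 : (oc G a b ⊓ MulAction.stabilizer G g).relIndex (oc G a b) =
      (oc G g a ⊓ MulAction.stabilizer G (t • a)).relIndex (oc G g a) := by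
    have h5 := card_mul_relIndex' (inf_le_left : oc G a b ⊓ MulAction.stabilizer G g ≤ oc G a b)
    have h6 := card_mul_relIndex'
      (inf_le_left : oc G g a ⊓ MulAction.stabilizer G (t • a) ≤ oc G g a)
    rw [h1] at h5
    have h7 : 0 < Nat.card (oc G g a ⊓ MulAction.stabilizer G (t • a) : Subgroup G) :=
      Nat.card_pos
    apply Nat.eq_of_mul_eq_mul_left h7
    rw [h6, ← h3, ← h5, h1]
  rw [h4, relIndex_eq h htt hcd hga hv (w := t) ⟨ht.1, htg⟩]
  exact relIndex_oc_dvd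

end Cfsg.Agent.AschCrit.ClaimN.Third
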